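import Groth.Agent.Fga.RelCart
import Groth.Agent.S2821
import Mathlib.AlgebraicGeometry.Stalk
import Mathlib.RingTheory.DiscreteValuationRing.Basic

/-!
# Flat closed subschemes of a regular arithmetic surface over a discrete valuation ring are Cartier

* `pn_of_regular` : in a regular local ring `A` of dimension at most two a nonzero ideal `I`, such that an
  element `π` of the maximal ideal is a nonzerodivisor on `A ⧸ I`, is generated by a nonzerodivisor.
* `eff_of_dvr` : the statement for ideal sheaves.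
-/

set_option autoImplicit false

universe u

open CategoryTheory CategoryTheory.Limits AlgebraicGeometry TopologicalSpace Opposite
open Groth.Agent

namespace K798.RegDvr

open IsLocalRing Groth.Agent.Fga.RelCartAlg Groth.Agent.Fga.RelCart Groth.Agent.Divis.CartierBasic

/-- In a local ring of dimension at most two a prime ideal containing strictly a nonzero prime is maximal. -/
lemma eq_maximalIdeal_of_lt {A : Type u} [CommRing A] [IsDomain A] [IsLocalRing A] (hdim : ringKrullDim A ≤ 2)
    {q p : Ideal A} [q.IsPrime] [p.IsPrime] (hq : q ≠ ⊥) (h : q < p) : p = maximalIdeal A := by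
  by_contra hp
  have h1 : p < maximalIdeal A := lt_of_le_of_ne (le_maximalIdeal ‹p.IsPrime›.ne_top) hp
  have h2 : (⊥ : Ideal A) < q := bot_lt_iff_ne_bot.2 hq
  have h3 := Ideal.height_add_one_le_of_lt_of_isPrime h2
  have h4 := Ideal.height_add_one_le_of_lt_of_isPrime h
  have h5 := Ideal.height_add_one_le_of_lt_of_isPrime h1
  have h6 : (3 : ℕ∞) ≤ (maximalIdeal A).height := by
    calc (3 : ℕ∞) = 0 + 1 + 1 + 1 := by norm_num
      _ ≤ (⊥ : Ideal A).height + 1 + 1 + 1 := by gcongr; exact zero_le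
      _ ≤ q.height + 1 + 1 := by gcongr
      _ ≤ p.height + 1 := by gcongr
      _ ≤ _ := h5
  rw [← maximalIdeal_height_eq_ringKrullDim] at hdim
  have h7 : (maximalIdeal A).height ≤ 2 := WithBot.coe_le_coe.1 hdim
  have h8 := h6.trans h7
  revert h8
  decide

theorem pn_of_regular {A : Type u} [CommRing A] [IsRegularLocalRing A] (hdim : ringKrullDim A ≤ 2)
    (I : Ideal A) (hI : I ≠ ⊥) (π : A) (hπ : π ∈ maximalIdeal A) (h : ∀ a, π * a ∈ I → a ∈ I) : PN I := by
  obtain ⟨hd, hufd⟩ := Groth.Agent.S2821.result A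
  -- a maximal cofactor
  let s : Set (Ideal A) := {J | ∃ f0 : A, f0 ≠ 0 ∧ I = Ideal.span {f0} * J}
  have hs : s.Nonempty := ⟨I, 1, one_ne_zero, by rw [Ideal.span_singleton_one, Ideal.top_mul]⟩
  obtain ⟨J, ⟨f0, hf0, hIJ⟩, hmax⟩ : ∃ J : Ideal A, J ∈ s ∧ ∀ J' ∈ s, ¬ J < J' :=
    set_has_maximal_iff_noetherian.2 (inferInstance : IsNoetherian A A) s hs
  have hJ0 : J ≠ ⊥ := by
    rintro rfl
    exact hI (by rw [hIJ, Ideal.mul_bot])
  -- `J` is in no principal prime ideal
  have hq : ∀ q : A, Prime q → ¬ J ≤ Ideal.span {q} := by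
    intro q hq hJq
    let J' : Ideal A := Submodule.comap (LinearMap.mulLeft A q) J
    have hJ' : J = Ideal.span {q} * J' := by
      rw [Ideal.eq_span_singleton_mul]
      refine ⟨fun z hz => ?_, fun z hz => hz⟩
      obtain ⟨c, rfl⟩ := Ideal.mem_span_singleton.1 (hJq hz)
      exact ⟨c, hz, rfl⟩
    have hle : J ≤ J' := fun z hz => J.mul_mem_left q hz
    have hlt : J < J' := by
      refine lt_of_le_of_ne hle fun he => hJ0 ?_
      rw [← he] at hJ'
      refine Submodule.eq_bot_of_le_smul_of_le_jacobson_bot (Ideal.span {q}) J (IsNoetherian.noetherian J)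
        (by rw [smul_eq_mul]; exact hJ'.le) ?_
      rw [IsLocalRing.jacobson_eq_maximalIdeal _ bot_ne_top, Ideal.span_singleton_le_iff_mem]
      exact (mem_maximalIdeal q).2 hq.not_isUnit
    exact hmax J' ⟨f0 * q, mul_ne_zero hf0 hq.ne_zero, by
      rw [← Ideal.span_singleton_mul_span_singleton, mul_assoc, ← hJ', hIJ]⟩ hlt
  -- `J` is the unit ideal
  have hJ : J = ⊤ := by
    by_contra hJt
    have hrad : π ∈ J.radical := by
      rw [Ideal.radical_eq_sInf, Ideal.mem_sInf]
      rintro p ⟨hJp, hp⟩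
      have hp0 : p ≠ ⊥ := fun he => hJ0 (le_bot_iff.1 (he ▸ hJp))
      obtain ⟨q, hqp, hqq⟩ := hp.exists_mem_prime_of_ne_bot hp0
      have hqI : (Ideal.span {q}).IsPrime := (Ideal.span_singleton_prime hqq.ne_zero).2 hqq
      have hlt : Ideal.span {q} < p := by
        refine lt_of_le_of_ne ((Ideal.span_singleton_le_iff_mem _).2 hqp) fun he => hq q hqq ?_
        rw [he]
        exact hJp
      rw [eq_maximalIdeal_of_lt hdim (by rw [Ne, Ideal.span_singleton_eq_bot]; exact hqq.ne_zero) hlt]
      exact hπ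
    obtain ⟨k, hk⟩ := hrad
    have h1 : π ^ k * f0 ∈ I := by
      rw [hIJ, mul_comm (π ^ k) f0]
      exact Ideal.mul_mem_mul (Ideal.mem_span_singleton_self f0) hk
    have h2 : ∀ n : ℕ, π ^ n * f0 ∈ I → f0 ∈ I := by
      intro n
      induction n with
      | zero => intro h3; simpa using h3
      | succ n ih => exact fun h3 => ih (h _ (by rwa [pow_succ', mul_assoc] at h3))
    have h3 := h2 k h1
    rw [hIJ, Ideal.mem_span_singleton_mul] at h3
    obtain ⟨z, hz, hz1⟩ := h3
    have h4 : z = 1 := mul_left_cancel₀ hf0 (by rw [hz1, mul_one])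
    exact hJt ((Ideal.eq_top_iff_one J).2 (h4 ▸ hz))
  refine ⟨f0, mem_nonZeroDivisors_of_ne_zero hf0, ?_⟩
  rw [hIJ, hJ, Ideal.mul_top]

/-- The stalk of `Spec R` at the closed point has a nonzero nonunit. -/
lemma exists_mem_stalk {R : Type u} [CommRing R] [IsDomain R] [IsDiscreteValuationRing R]
    (s : Spec (CommRingCat.of R)) (hs : s = closedPoint R) :
    ∃ b ∈ maximalIdeal ((Spec (CommRingCat.of R)).presheaf.stalk s), b ≠ 0 := by
  subst hs
  obtain ⟨π, hπ⟩ := IsDiscreteValuationRing.exists_irreducible R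
  let e : (Spec (CommRingCat.of R)).presheaf.stalk (closedPoint R) ≃+* R :=
    (stalkClosedPointIso (CommRingCat.of R)).commRingCatIsoToRingEquiv
  refine ⟨e.symm π, ?_, ?_⟩
  · rw [mem_maximalIdeal, mem_nonunits_iff]
    intro hu
    exact hπ.not_isUnit (by simpa using hu.map e)
  · exact fun h => hπ.ne_zero (by simpa using congrArg e h)

/-- The stalk of an ideal sheaf at a generization. -/
lemma stalkIdeal_specializes {X : Scheme.{u}} (I : X.IdealSheafData) {x y : X} (h : y ⤳ x) :
    stalkIdeal I y = (stalkIdeal I x).map (X.presheaf.stalkSpecializes h).hom := by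
  obtain ⟨U, hU⟩ := exists_affine x
  have hyU : y ∈ U.1 := h.mem_open U.1.isOpen hU
  rw [stalkIdeal_eq I U hU, stalkIdeal_eq I U hyU, Ideal.map_map, ← CommRingCat.hom_comp,
    X.presheaf.germ_stalkSpecializes]

theorem eff_of_dvr {R : Type u} [CommRing R] [IsDomain R] [IsDiscreteValuationRing R] {X : Scheme.{u}}
    (f : X ⟶ Spec (CommRingCat.of R)) [IsLocallyNoetherian X] (hreg : ∀ x : X, IsRegularLocalRing (X.presheaf.stalk x))
    (hdim : ∀ x : X, ringKrullDim (X.presheaf.stalk x) ≤ 2) (I : X.IdealSheafData) [Flat (I.subschemeι ≫ f)]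
    (hgen : ∀ x : X, f x ≠ IsLocalRing.closedPoint R → Fga.RelCart.Eff I x) (x : X) : Fga.RelCart.Eff I x := by
  by_cases hx : f x = closedPoint R
  swap
  · exact hgen x hx
  have hrx := hreg x
  obtain ⟨hd, -⟩ := Groth.Agent.S2821.result (X.presheaf.stalk x)
  by_cases htop : stalkIdeal I x = ⊤
  · unfold Eff
    rw [htop]
    exact pn_top
  obtain ⟨b, hb, hb0⟩ := exists_mem_stalk (f x) hx
  have hfl := flat_mk_comp_stalkMap f I x
  let π : X.presheaf.stalk x := (f.stalkMap x).hom b
  have hπ : π ∈ maximalIdeal (X.presheaf.stalk x) := by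
    rw [mem_maximalIdeal, mem_nonunits_iff] at hb ⊢
    exact fun hu => hb (isUnit_of_map_unit (f.stalkMap x).hom b hu)
  -- `π` is a nonzerodivisor modulo `I`
  have hreg : ∀ a, π * a ∈ stalkIdeal I x → a ∈ stalkIdeal I x := by
    intro a ha
    have hdB : IsDomain ((Spec (CommRingCat.of R)).presheaf.stalk (f x)) := inferInstance
    let _ := ((Ideal.Quotient.mk (stalkIdeal I x)).comp (f.stalkMap x).hom).toAlgebra
    have hfl' : Module.Flat ((Spec (CommRingCat.of R)).presheaf.stalk (f x))
      (X.presheaf.stalk x ⧸ stalkIdeal I x) := hfl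
    have h1 : IsSMulRegular (X.presheaf.stalk x ⧸ stalkIdeal I x) b :=
      (IsSMulRegular.of_ne_zero hb0 : IsSMulRegular _ b).of_flat
    have h2 : b • (Ideal.Quotient.mk (stalkIdeal I x) a) = 0 := by
      rw [Algebra.smul_def]
      change Ideal.Quotient.mk (stalkIdeal I x) π * Ideal.Quotient.mk (stalkIdeal I x) a = 0
      rw [← map_mul]
      exact Ideal.Quotient.eq_zero_iff_mem.2 ha
    exact Ideal.Quotient.eq_zero_iff_mem.1 (h1.right_eq_zero_of_smul h2)
  have hπ0 : π ≠ 0 := by
    intro h0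
    refine htop ((Ideal.eq_top_iff_one _).2 (hreg 1 ?_))
    rw [h0, zero_mul]
    exact zero_mem _
  -- `I` is nonzero at `x`
  have hbot : stalkIdeal I x ≠ ⊥ := by
    intro hbot
    let z : Spec (X.presheaf.stalk x) := ⟨⊥, Ideal.isPrime_bot⟩
    have hy : X.fromSpecStalk x z ⤳ x := by
      have h1 : X.fromSpecStalk x z ∈ Set.range (X.fromSpecStalk x) := ⟨z, rfl⟩
      rwa [Scheme.range_fromSpecStalk] at h1
    have h1 : stalkIdeal I (X.fromSpecStalk x z) = ⊥ := by
      rw [stalkIdeal_specializes I hy, hbot, Ideal.map_bot]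
    have h2 : f (X.fromSpecStalk x z) ≠ closedPoint R := by
      intro h3
      let w : Spec ((Spec (CommRingCat.of R)).presheaf.stalk (f x)) := Spec.map (f.stalkMap x) z
      have h4 : (Spec (CommRingCat.of R)).fromSpecStalk (f x) w =
          (Spec (CommRingCat.of R)).fromSpecStalk (f x) (closedPoint _) := by
        rw [Scheme.fromSpecStalk_closedPoint]
        change (Spec (CommRingCat.of R)).fromSpecStalk (f x) (Spec.map (f.stalkMap x) z) = f x
        rw [← Scheme.Hom.comp_apply, Scheme.SpecMap_stalkMap_fromSpecStalk, Scheme.Hom.comp_apply, h3, hx]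
      have h5 : w = closedPoint _ :=
        ((Spec (CommRingCat.of R)).fromSpecStalk (f x)).isEmbedding.injective h4
      have h6 : b ∈ w.asIdeal := by
        rw [h5]
        exact hb
      exact hπ0 h6
    obtain ⟨g, hg, hg1⟩ := hgen _ h2
    rw [h1] at hg1
    have hg0 : g = 0 := by
      have := Ideal.mem_span_singleton_self g
      rw [← hg1] at this
      exact this
    rw [hg0] at hg
    exact zero_notMem_nonZeroDivisors hg
  exact pn_of_regular (hdim x) _ hbot π hπ hreg

end K798.RegDvr
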